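import Cfsg.Agent.H436.Ppd

/-!
# S3482, `E₇(q)`, `q` a power of 2, 13, 17: interface (helper962)

`L = E₇(q)`, `q = p ^ k`, `d = (2, q - 1)`.

* `C8` : the eight classes `5, 7, 8, 9, 10, 12, 14, 18` : primes `r` with `Prim q i r`, `i` in `C8`; pairwise not adjacent;
* `C4` : the four classes `7, 9, 14, 18`; `TT q i` : order of the torus; `NN q i` : its part of class `i`;
* `Tor S q` : an element of order divisible by a prime of class `i ∈ C4` has order dividing `TT q i`;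
* `Row p k S` : what is known of the simple section `S` of a group with the spectrum of `E₇(p ^ k)`.
-/

set_option autoImplicit false

namespace Cfsg.Agent.H962.E7

open Cfsg.Agent.H436

universe u

/-- the eight classes -/
def C8 : Finset ℕ := {5, 7, 8, 9, 10, 12, 14, 18}

/-- the four classes -/
def C4 : Finset ℕ := {7, 9, 14, 18}

/-- the part of class `i` of the order of the torus -/
def NN (q i : ℕ) : ℕ :=
  if i = 7 then (q ^ 7 - 1) / ((q - 1) * Nat.gcd 7 (q - 1))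
  else if i = 9 then (q ^ 6 + q ^ 3 + 1) / Nat.gcd 3 (q - 1)
  else if i = 14 then (q ^ 7 + 1) / ((q + 1) * Nat.gcd 7 (q + 1))
  else if i = 18 then (q ^ 6 - q ^ 3 + 1) / Nat.gcd 3 (q + 1)
  else 1

/-- the order of the torus of `E₇(q)` containing the primes of class `i` -/
def TT (q i : ℕ) : ℕ :=
  if i = 7 then (q ^ 7 - 1) / Nat.gcd 2 (q - 1)
  else if i = 9 then (q - 1) * (q ^ 6 + q ^ 3 + 1) / Nat.gcd 2 (q - 1)
  else if i = 14 then (q ^ 7 + 1) / Nat.gcd 2 (q - 1)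
  else if i = 18 then (q + 1) * (q ^ 6 - q ^ 3 + 1) / Nat.gcd 2 (q - 1)
  else 0

/-- the tori of the classes 7, 9, 14, 18 -/
def Tor (S : Type*) [Group S] (q : ℕ) : Prop :=
  ∀ i ∈ C4, ∀ (x : S) (r : ℕ), Prim q i r → r ∣ orderOf x → orderOf x ∣ TT q i

/-- primes of different classes are not adjacent -/
def Nad (S : Type*) [Group S] (q : ℕ) : Prop :=
  ∀ i ∈ C8, ∀ j ∈ C8, i ≠ j → ∀ r s : ℕ, Prim q i r → Prim q j s → ¬ ∃ x : S, orderOf x = r * s

/-- the primes of class `i` divide `|S|`, the whole part `NN q i` is the order of an element -/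
structure Fl (S : Type*) [Group S] (q i : ℕ) : Prop where
  dvd : ∀ r : ℕ, Prim q i r → r ∣ Nat.card S
  elt : i ∈ C4 → ∃ x : S, orderOf x = NN q i

/-- what is known of the simple section -/
structure Row (p k : ℕ) (S : Type u) [Group S] : Prop where
  hp : p.Prime
  hk : 1 ≤ k
  cas : p = 2 ∨ p = 13 ∨ p = 17
  simple : IsSimpleGroup S
  nonab : ¬ IsMulCommutative S
  pi : ∀ r : ℕ, r.Prime → r ∣ Nat.card S → r = p ∨ ∃ i ∈ ({8, 10, 12, 14, 18} : Finset ℕ), r ∣ (p ^ k) ^ i - 1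
  tor : Tor S (p ^ k)
  nad : Nad S (p ^ k)
  one : ∀ i ∈ C8, ∀ j ∈ C8, i ≠ j → Fl S (p ^ k) i ∨ Fl S (p ^ k) j
  top : ∀ i ∈ ({14, 18} : Finset ℕ), Fl S (p ^ k) i
  even : p = 2 → ∀ i ∈ C4, Fl S (p ^ k) i

end Cfsg.Agent.H962.E7
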