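import Cfsg.Agent.H962.E7.Def
import Cfsg.Agent.H420.CrossRank

/-!
# S3482: the frame (helper962)

* `LF p k L` : what is used of `L = E₇(p ^ k)`;
* `frame` : `G` with the element orders of `L` : `K`, `S` with `Red G K S` and `Row p k S`.
-/

set_option autoImplicit false

namespace Cfsg.Agent.H962.E7

open Subgroup
open Cfsg.Agent.H436 Cfsg.Agent.H420.QR

universe u v

/-- what is used of `L = E₇(p ^ k)` for the frame -/
structure LF (p k : ℕ) (L : Type*) [Group L] : Prop where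
  hp : p.Prime
  hk : 1 ≤ k
  cas : p = 2 ∨ p = 13 ∨ p = 17
  tor : Tor L (p ^ k)
  nad : Nad L (p ^ k)
  pi : ∀ r : ℕ, r.Prime → r ∣ Nat.card L → r = p ∨ ∃ i ∈ ({8, 10, 12, 14, 18} : Finset ℕ), r ∣ (p ^ k) ^ i - 1
  dvd : ∀ i ∈ C8, ∀ r : ℕ, Prim (p ^ k) i r → r ∣ Nat.card L
  elt : ∀ i ∈ C4, ∃ x : L, orderOf x = NN (p ^ k) i

/-- elements of order prime to `|K| |G / K : S|` -/
theorem exists_of_coprime {G : Type u} [Group G] [Finite G] {K : Subgroup G} [K.Normal] {S : Subgroup (G ⧸ K)}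
    [S.Normal] {n : ℕ} (h : ∃ g : G, orderOf g = n) (hc : n.Coprime (Nat.card ↥K * S.index)) :
    ∃ x : ↥S, orderOf x = n := by
  obtain ⟨g, hg⟩ := h
  have h1 : orderOf ((QuotientGroup.mk' K) g) = n := by
    apply Nat.dvd_antisymm
    · rw [← hg]; exact orderOf_map_dvd _ g
    · rw [← hg]
      apply orderOf_dvd_of_pow_eq_one
      set m := orderOf ((QuotientGroup.mk' K) g) with hm
      have h2 : g ^ m ∈ K := by
        rw [← QuotientGroup.eq_one_iff, QuotientGroup.mk_pow]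
        exact pow_orderOf_eq_one ((QuotientGroup.mk' K) g)
      have h3 : orderOf (g ^ m) ∣ Nat.card ↥K := by
        have := orderOf_dvd_natCard (⟨g ^ m, h2⟩ : ↥K)
        rwa [← Subgroup.orderOf_coe] at this
      have h4 : orderOf (g ^ m) ∣ n := by rw [← hg]; exact orderOf_pow_dvd m
      exact orderOf_eq_one_iff.1 (Nat.eq_one_of_dvd_coprimes hc h4 (h3.mul_right _))
  have h2 : (QuotientGroup.mk' K) g ∈ S := by
    rw [← QuotientGroup.eq_one_iff]
    have h3 : orderOf ((QuotientGroup.mk' S) ((QuotientGroup.mk' K) g)) ∣ n := by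
      rw [← h1]; exact orderOf_map_dvd _ _
    have h4 : orderOf ((QuotientGroup.mk' S) ((QuotientGroup.mk' K) g)) ∣ S.index := by
      rw [Subgroup.index]; exact orderOf_dvd_natCard _
    exact orderOf_eq_one_iff.1 (Nat.eq_one_of_dvd_coprimes hc h3 (h4.mul_left _))
  refine ⟨⟨_, h2⟩, ?_⟩
  rw [← Subgroup.orderOf_coe]
  exact h1

theorem c4_subset : C4 ⊆ C8 := by decide

theorem c8_three {i : ℕ} (hi : i ∈ C8) : 5 ≤ i ∧ i ≠ 6 := by
  unfold C8 at hi
  simp only [Finset.mem_insert, Finset.mem_singleton] at hi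
  omega

theorem exists_prim8 {q i : ℕ} (hq : 2 ≤ q) (hi : i ∈ C8) : ∃ r, Prim q i r :=
  exists_prim hq (by have := c8_three hi; omega) (by have := c8_three hi; omega)

theorem Prim.lt {q i r : ℕ} (h : Prim q i r) (hi : 3 ≤ i) : i < r := by
  have hr := h.prime
  have h1 : i ∣ r - 1 := by
    rw [← h.dvd_iff]
    have h2 : q.Coprime r := by
      rw [Nat.coprime_comm, hr.coprime_iff_not_dvd]
      exact h.not_dvd
    have h3 := Nat.ModEq.pow_totient h2
    rw [Nat.totient_prime hr] at h3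
    exact (Nat.modEq_iff_dvd' (Nat.one_le_iff_ne_zero.2 (pow_ne_zero _ (by
      rintro rfl
      exact h.not_dvd (dvd_zero r))))).1 h3.symm
  have h2 : r - 1 ≠ 0 := by
    have := hr.two_le
    omega
  have := Nat.le_of_dvd (Nat.pos_of_ne_zero h2) h1
  omega

section

variable {p k : ℕ} {L : Type v} [Group L]

theorem LF.two_le (h : LF p k L) : 2 ≤ p ^ k := by
  have h1 := h.hp.two_le
  calc 2 ≤ p := h1
    _ = p ^ 1 := (pow_one p).symm
    _ ≤ p ^ k := Nat.pow_le_pow_right (by omega) h.hk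

/-- **The frame.** -/
theorem frame [Finite L] (h : LF p k L)
    (hNN : ∀ i ∈ C4, ∀ r : ℕ, r.Prime → r ∣ NN (p ^ k) i → Prim (p ^ k) i r)
    (hodd : ∀ i ∈ ({14, 18} : Finset ℕ), ¬ 2 ∣ TT (p ^ k) i) (hodd2 : p = 2 → ∀ i ∈ C4, ¬ 2 ∣ TT (p ^ k) i)
    {G : Type u} [Group G] [Finite G] (hω : ∀ m : ℕ, (∃ g : G, orderOf g = m) ↔ ∃ y : L, orderOf y = m) :
    ∃ (K : Subgroup G) (_ : K.Normal) (S : Subgroup (G ⧸ K)) (_ : S.Normal), Red G K S ∧ Row p k ↥S := by
  have hq := h.two_le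
  -- primes
  have hdG : ∀ i ∈ C8, ∀ r : ℕ, Prim (p ^ k) i r → r ∣ Nat.card G := by
    intro i hi r hr
    have := Fact.mk hr.prime
    obtain ⟨y, hy⟩ := exists_prime_orderOf_dvd_card' r (h.dvd i hi r hr)
    obtain ⟨g, hg⟩ := (hω r).2 ⟨y, hy⟩
    rw [← hg]
    exact orderOf_dvd_natCard g
  have hnG : ∀ i ∈ C8, ∀ j ∈ C8, i ≠ j → ∀ r s : ℕ, Prim (p ^ k) i r → Prim (p ^ k) j s →
      ¬ ∃ x : G, orderOf x = r * s := by
    intro i hi j hj hij r s hr hs hx
    exact h.nad i hi j hj hij r s hr hs ((hω _).1 hx)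
  -- cocliques with two given primes
  have hcoq : ∀ i ∈ C8, ∀ j ∈ C8, i ≠ j → ∀ r s : ℕ, Prim (p ^ k) i r → Prim (p ^ k) j s →
      ∃ ρ : Finset ℕ, IsCoq G ρ ∧ 3 ≤ ρ.card ∧ r ∈ ρ ∧ s ∈ ρ := by
    intro i hi j hj hij r s hr hs
    obtain ⟨l, hl, hli, hlj⟩ : ∃ l ∈ C8, l ≠ i ∧ l ≠ j := by
      by_cases h1 : 5 ≠ i ∧ 5 ≠ j
      · exact ⟨5, by decide, h1⟩
      · by_cases h2 : 7 ≠ i ∧ 7 ≠ j
        · exact ⟨7, by decide, h2⟩
        · refine ⟨8, by decide, ?_, ?_⟩ <;> omega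
    obtain ⟨t, ht⟩ := exists_prim8 hq hl
    have hrs : r ≠ s := by rintro rfl; exact hij (hr.unique hs)
    have hrt : r ≠ t := by rintro rfl; exact hli (ht.unique hr)
    have hst : s ≠ t := by rintro rfl; exact hlj (ht.unique hs)
    refine ⟨{r, s, t}, ⟨?_, ?_, ?_⟩, ?_, by simp, by simp⟩
    · intro x hx
      simp only [Finset.mem_insert, Finset.mem_singleton] at hx
      rcases hx with rfl | rfl | rfl
      exacts [hr.prime, hs.prime, ht.prime]
    · intro x hx
      simp only [Finset.mem_insert, Finset.mem_singleton] at hx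
      rcases hx with rfl | rfl | rfl
      exacts [hdG i hi _ hr, hdG j hj _ hs, hdG l hl _ ht]
    · intro x hx y hy hxy
      simp only [Finset.mem_insert, Finset.mem_singleton] at hx hy
      rcases hx with rfl | rfl | rfl <;> rcases hy with rfl | rfl | rfl
      · exact absurd rfl hxy
      · exact hnG i hi j hj hij _ _ hr hs
      · exact hnG i hi l hl (Ne.symm hli) _ _ hr ht
      · exact hnG j hj i hi (Ne.symm hij) _ _ hs hr
      · exact absurd rfl hxy
      · exact hnG j hj l hl (Ne.symm hlj) _ _ hs ht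
      · exact hnG l hl i hi hli _ _ ht hr
      · exact hnG l hl j hj hlj _ _ ht hs
      · exact absurd rfl hxy
    · rw [Finset.card_eq_three.2 ⟨r, s, t, hrs, hrt, hst, rfl⟩]
  -- not adjacent to two
  have h2G : ∀ i ∈ C4, ¬ 2 ∣ TT (p ^ k) i → ∀ r : ℕ, Prim (p ^ k) i r → ¬ ∃ x : G, orderOf x = 2 * r := by
    intro i hi ho r hr hx
    obtain ⟨y, hy⟩ := (hω _).1 hx
    exact ho ((Dvd.intro _ hy.symm).trans (h.tor i hi y r hr (by rw [hy]; exact dvd_mul_left _ _)))
  have hne2 : ∀ i ∈ C8, ∀ r : ℕ, Prim (p ^ k) i r → r ≠ 2 := by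
    intro i hi r hr
    have := Prim.lt hr (by have := c8_three hi; omega)
    have := c8_three hi
    omega
  -- the reduction
  obtain ⟨r₁, hr₁⟩ := exists_prim8 hq (show 14 ∈ C8 by decide)
  obtain ⟨r₂, hr₂⟩ := exists_prim8 hq (show 18 ∈ C8 by decide)
  obtain ⟨ρ, hρ, h3, -, -⟩ := hcoq 14 (by decide) 18 (by decide) (by decide) r₁ r₂ hr₁ hr₂
  obtain ⟨K, hK, S, hS, R⟩ := exists_red hρ h3 ⟨r₁, hr₁.prime, hne2 14 (by decide) r₁ hr₁,
    hdG 14 (by decide) r₁ hr₁, h2G 14 (by decide) (hodd 14 (by decide)) r₁ hr₁⟩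
  refine ⟨K, hK, S, hS, R, ?_⟩
  have hsimp := R.simple
  -- good classes
  have hgood : ∀ i ∈ C8, (∀ r : ℕ, Prim (p ^ k) i r → ¬ r ∣ Nat.card ↥K * S.index) → Fl ↥S (p ^ k) i := by
    intro i hi hg
    refine ⟨fun r hr => ?_, fun hi4 => ?_⟩
    · have h1 := hdG i hi r hr
      rw [card_eq_mul (K := K) (S := S)] at h1
      exact (hr.prime.dvd_mul.1 h1).resolve_right (hg r hr)
    · apply exists_of_coprime ((hω _).2 (h.elt i hi4))
      rw [Nat.coprime_iff_gcd_eq_one]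
      by_contra hne
      obtain ⟨r, hr, hrd⟩ := Nat.exists_prime_and_dvd hne
      exact hg r (hNN i hi4 r hr (hrd.trans (Nat.gcd_dvd_left _ _))) (hrd.trans (Nat.gcd_dvd_right _ _))
  have hone : ∀ i ∈ C8, ∀ j ∈ C8, i ≠ j → Fl ↥S (p ^ k) i ∨ Fl ↥S (p ^ k) j := by
    intro i hi j hj hij
    by_contra hcon
    push Not at hcon
    have h1 : ∃ r : ℕ, Prim (p ^ k) i r ∧ r ∣ Nat.card ↥K * S.index := by
      by_contra h2
      push Not at h2
      exact hcon.1 (hgood i hi h2)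
    have h2 : ∃ r : ℕ, Prim (p ^ k) j r ∧ r ∣ Nat.card ↥K * S.index := by
      by_contra h2
      push Not at h2
      exact hcon.2 (hgood j hj h2)
    obtain ⟨r, hr, hrd⟩ := h1
    obtain ⟨s, hs, hsd⟩ := h2
    obtain ⟨ρ, hρ, h3, hrρ, hsρ⟩ := hcoq i hi j hj hij r s hr hs
    have h4 := R.coc' ρ hρ h3 r hrρ s hsρ hrd hsd
    subst h4
    exact hij (hr.unique hs)
  -- a coclique of seven primes of `S`
  have hseven : ∃ σ : Finset ℕ, IsCoq ↥S σ ∧ (∀ r ∈ σ, 3 < r) ∧ 7 ≤ σ.card := by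
    choose! f hf using fun i (hi : i ∈ C8) => exists_prim8 hq hi
    have hinj : Set.InjOn f C8 := by
      intro i hi j hj hij
      have h1 := hf i hi
      rw [hij] at h1
      exact h1.unique (hf j hj)
    have hρ : IsCoq G (C8.image f) := by
      refine ⟨?_, ?_, ?_⟩
      · intro x hx
        obtain ⟨i, hi, rfl⟩ := Finset.mem_image.1 hx
        exact (hf i hi).prime
      · intro x hx
        obtain ⟨i, hi, rfl⟩ := Finset.mem_image.1 hx
        exact hdG i hi _ (hf i hi)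
      · intro x hx y hy hxy
        obtain ⟨i, hi, rfl⟩ := Finset.mem_image.1 hx
        obtain ⟨j, hj, rfl⟩ := Finset.mem_image.1 hy
        exact hnG i hi j hj (fun hij => hxy (by rw [hij])) _ _ (hf i hi) (hf j hj)
    have hcard : (C8.image f).card = 8 := by
      rw [Finset.card_image_of_injOn hinj]
      rfl
    obtain ⟨h1, h2⟩ := R.filter hρ (by rw [hcard]; norm_num)
    refine ⟨_, h1, ?_, by omega⟩
    intro r hr
    obtain ⟨i, hi, rfl⟩ := Finset.mem_image.1 (Finset.mem_filter.1 hr).1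
    have := Prim.lt (hf i hi) (by have := c8_three hi; omega)
    have := c8_three hi
    omega
  have hnA : ¬ Cfsg.Agent.H414.Rad.AltL2 ↥S := by
    obtain ⟨σ, hσ, h3σ, h7⟩ := hseven
    rintro (⟨⟨e⟩⟩ | ⟨F, _, _, -, ⟨e⟩⟩)
    · have hsub : σ ⊆ {5, 7} := by
        intro r hr
        have h1 := hσ.dvd r hr
        have h2 := hσ.prime r hr
        have h3 := h3σ r hr
        rw [Nat.card_congr e.toEquiv, nat_card_alternatingGroup, Nat.card_eq_fintype_card, Fintype.card_fin] at h1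
        have h4 : r ∣ Nat.factorial 7 := h1.trans (Nat.div_dvd_of_dvd (by decide))
        have h5 := (h2.dvd_factorial).1 h4
        have h6 : r = 4 ∨ r = 5 ∨ r = 6 ∨ r = 7 := by omega
        rcases h6 with rfl | rfl | rfl | rfl
        · exact absurd h2 (by norm_num)
        · simp
        · exact absurd h2 (by norm_num)
        · simp
      have := Finset.card_le_card hsub
      have h8 : ({5, 7} : Finset ℕ).card = 2 := by decide
      omega
    · have := psl_two_card_le (hσ.congr e) h3σ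
      omega
  have htwo := R.two.resolve_left hnA
  have htop : ∀ i ∈ C4, ¬ 2 ∣ TT (p ^ k) i → Fl ↥S (p ^ k) i := by
    intro i hi ho
    apply hgood i (c4_subset hi)
    intro r hr hd
    obtain ⟨h1, h2, h3⟩ := htwo r hr.prime (hne2 i (c4_subset hi) r hr) (hdG i (c4_subset hi) r hr) (h2G i hi ho r hr)
    rcases hr.prime.dvd_mul.1 hd with h4 | h4
    · exact h2 h4
    · exact h3 h4
  refine ⟨h.hp, h.hk, h.cas, R.simple, R.nonab, ?_, ?_, ?_, hone, ?_, ?_⟩
  · intro r hr hd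
    have := Fact.mk hr
    obtain ⟨g, hg⟩ := exists_prime_orderOf_dvd_card' r (hd.trans R.pi)
    obtain ⟨y, hy⟩ := (hω r).1 ⟨g, hg⟩
    exact h.pi r hr (by rw [← hy]; exact orderOf_dvd_natCard y)
  · intro i hi x r hr hd
    have h0 := orderOf_pos x
    obtain ⟨g, hg⟩ := R.adj 1 (orderOf x) one_ne_zero (by omega) ⟨x, (one_mul _).symm⟩
    rw [one_mul] at hg
    obtain ⟨y, hy⟩ := (hω _).1 ⟨g, hg⟩
    rw [← hy]
    exact h.tor i hi y r hr (by rw [hy]; exact hd)
  · intro i hi j hj hij r s hr hs hx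
    exact hnG i hi j hj hij r s hr hs (R.adj r s hr.prime.ne_zero hs.prime.ne_zero hx)
  · intro i hi
    exact htop i (by
      simp only [Finset.mem_insert, Finset.mem_singleton] at hi
      rcases hi with rfl | rfl <;> decide) (hodd i hi)
  · intro hp2 i hi
    exact htop i hi (hodd2 hp2 i hi)

end

end Cfsg.Agent.H962.E7
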