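import Cfsg.Agent.H130.E7.Own
import Cfsg.Agent.H130.E7.NoThree
import Cfsg.Agent.H824.E7.Facts
import Cfsg.Agent.H564.U.F4
import Cfsg.Agent.H962.E7.Lat
import Cfsg.Agent.H962.E7.Frame

/-!
# S3482: the covers of `E₇(q)` (helper962)

* `no3pr` : no element of order `3 p r`, `r` of class 12;
* `cov_E7` : `Cov`.
-/

set_option autoImplicit false

namespace Cfsg.Agent.H962.E7

open Subgroup Cfsg Cfsg.Lie
open Cfsg.Agent.H436 Cfsg.Agent.H425.KFix

universe u v

theorem exists_rho {L : Type u} [Group L] {p : ℕ} {V : Type v} [AddCommGroup V] [Module (ZMod p) V]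
    (φ : L →* AddMonoid.End V) (h1 : ∀ (g : L) (v : V), φ g (φ g⁻¹ v) = v)
    (h2 : ∀ (g : L) (v : V), φ g⁻¹ (φ g v) = v) : ∃ ρ : L →* (V ≃ₗ[ZMod p] V), ∀ g v, ρ g v = φ g v := by
  let e : L → (V ≃ₗ[ZMod p] V) := fun g =>
    { (φ g).toZModLinearMap p with
      invFun := φ g⁻¹
      left_inv := fun v => h2 g v
      right_inv := fun v => h1 g v }
  have he : ∀ (g : L) (v : V), (e g) v = φ g v := fun g v => rfl
  have h3 : ∀ g g', e (g * g') = e g * e g' := by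
    intro g g'
    apply LinearEquiv.ext
    intro v
    rw [LinearEquiv.mul_apply, he, he, he, map_mul]
    rfl
  exact ⟨MonoidHom.mk' e h3, he⟩

/-- a fixed vector from `FixAll` -/
theorem fixed_of {L : Type u} [Group L] {p : ℕ} [Fact p.Prime] {x : L} (hx : FixAll.{v} p x) {V : Type v}
    [AddCommGroup V] [Finite V] [Nontrivial V] (hV : ∀ v : V, p • v = 0) (φ : L →* AddMonoid.End V) :
    ∃ v : V, v ≠ 0 ∧ φ x v = v := by
  let _ : Module (ZMod p) V := AddCommGroup.zmodModule hV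
  have h1 : ∀ (g : L) (v : V), φ g (φ g⁻¹ v) = v := by
    intro g v
    have h : φ (g * g⁻¹) v = φ g (φ g⁻¹ v) := by rw [map_mul]; rfl
    rw [← h, mul_inv_cancel, map_one]
    rfl
  have h2 : ∀ (g : L) (v : V), φ g⁻¹ (φ g v) = v := by
    intro g v
    have h := h1 g⁻¹ v
    rwa [inv_inv] at h
  obtain ⟨ρ, hρ⟩ := exists_rho (p := p) φ h1 h2
  obtain ⟨v, hv0, hv⟩ := hx V ρ
  exact ⟨v, hv0, by rw [← hρ, hv]⟩

/-- **no element of order `3 p r`** -/
theorem no3pr {F : Type u} [Field F] [Finite F] {p : ℕ} [Fact p.Prime] [CharP F p] (h3 : p ≠ 3) {r : ℕ} (hr : r.Prime)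
    (hod : orderOf (Nat.card F : ZMod r) = 12) (x : ↥(chevE7.group F)) : orderOf x ≠ p * (3 * r) := by
  refine H130.E7.NoThree.no3pr_of h3 (fun k _ => ?_) hr hod x
  intro w χ q r hχ hr hr7 hd hq h1 h3 hr' a ha
  have := Cfsg.Agent.Nodes.RGDChev.finite_W H35.ExcIdx.hpE7 CoxeterMatrix.E₇.toCoxeterSystem
  refine Lat.chi_ne_one CoxeterMatrix.E₇.toCoxeterSystem hr hr7 hd ?_ hχ h1 h3 hr' ha
  rintro ⟨m, rfl⟩
  have e : (3 * m) ^ 2 = 3 * (3 * m ^ 2) := by ring
  omega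

/-- **the covers** -/
theorem cov_E7 (F : Type u) [Field F] [Fintype F] (p : ℕ) [CharP F p] (hp : p = 2 ∨ 7 ≤ p) :
    H373.Recog.Cov.{u, v} ↥(chevE7.group F) := by
  have hpp : Fact p.Prime := ⟨CharP.char_is_prime F p⟩
  refine H824.E7.Cross.cov_of (F := F) p ?_
  intro V _ _ _ hV φ _
  have hq2 : 2 ≤ Nat.card F := Finite.one_lt_card
  -- a prime of class 12
  obtain ⟨r, hr⟩ := exists_prim8 (q := Nat.card F) (i := 12) hq2 (by decide)
  have hod : orderOf (Nat.card F : ZMod r) = 12 := H824.E7.Facts.od_of_prim (by omega) hr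
  have hd : r ∣ Nat.card F ^ 12 - 1 := hr.dvd dvd_rfl
  have hr3 : r ≠ 3 := by
    rintro rfl
    have := (H824.E7.Tor.od_facts hr.prime hod (by norm_num)).2
    omega
  obtain ⟨x, hx, hfix⟩ := H130.E7.own_E7.{u, v} (p := p) hp F (fun x hx => by
    exact H564.U.fixAll_F4 x hx) hr.prime hr3 hd
  obtain ⟨v, hv0, hv⟩ := fixed_of hfix hV φ
  refine ⟨x, v, H373.Recog.sum_ne_zero_of_fixed hpp.out hV φ hv0 hv ?_, ?_⟩
  · rw [hx]
    intro h
    rcases hpp.out.dvd_mul.1 h with h1 | h1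
    · have := (Nat.prime_dvd_prime_iff_eq hpp.out Nat.prime_three).1 h1
      omega
    · have h2 := (Nat.prime_dvd_prime_iff_eq hpp.out hr.prime).1 h1
      apply hr.not_dvd
      rw [← h2]
      obtain ⟨n, -, hn⟩ := FiniteField.card F p
      rw [Nat.card_eq_fintype_card, hn]
      exact dvd_pow_self p n.ne_zero
  · rintro ⟨y, hy⟩
    exact no3pr (F := F) (p := p) (by omega) hr.prime hod y (by rw [hy, hx])

end Cfsg.Agent.H962.E7
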