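import Cfsg.Agent.H500.E7.FE8
import Cfsg.Agent.H962.RootSL
import Cfsg.Agent.H414.IsoE8
import Cfsg.Agent.H378.RegFin
import Cfsg.Agent.H436.Names

/-!
# S3482: facts on `E₈(u)` (helper962)
-/

set_option autoImplicit false
set_option linter.unusedSectionVars false

namespace Cfsg.Agent.H962.E7

open Subgroup Cfsg Cfsg.Lie Cfsg.Lie.ChevalleyDatum
open Cfsg.Agent.H436 Cfsg.Agent.H500.E7
open Cfsg.Agent.ChevalleyStructure.CoxeterGeomTypes Cfsg.Agent.ChevalleyStructure.CoxeterGeom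
open Cfsg.Agent.Nodes.RGDChev Cfsg.Agent.BpExc.FamExt Cfsg.Agent.BpExc.FamInst Cfsg.Agent.BpExc.RowsUntw
open Cfsg.Agent.H378.AdjTab Cfsg.Agent.H378.CycTab Cfsg.Agent.H378.ExcAdj Cfsg.Agent.H378.ExcNear
open Cfsg.Agent.Tits.Roots Cfsg.Agent.Tits.Core

universe u

theorem prim_iff {q i r : ℕ} (hq : 1 ≤ q) (hr : r.Prime) (hi : 0 < i) : Prim q i r ↔ orderOf (q : ZMod r) = i := by
  have key : ∀ m : ℕ, r ∣ q ^ m - 1 ↔ orderOf (q : ZMod r) ∣ m := by
    intro m
    rw [orderOf_dvd_iff_pow_eq_one]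
    have h1 : 1 ≤ q ^ m := Nat.one_le_pow _ _ hq
    rw [← ZMod.natCast_eq_zero_iff (q ^ m - 1) r, Nat.cast_sub h1, Nat.cast_pow, Nat.cast_one, sub_eq_zero]
  constructor
  · intro h
    apply Nat.dvd_antisymm
    · rw [← key]
      exact h.dvd dvd_rfl
    · rw [← h.dvd_iff, key]
  · intro h
    refine { prime := hr, not_dvd := ?_, dvd_iff := fun m => by rw [key, h] }
    intro h1
    have h2 : ((q : ℕ) : ZMod r) = 0 := (ZMod.natCast_eq_zero_iff q r).2 h1
    rw [h2] at h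
    have hf : Fact r.Prime := ⟨hr⟩
    have h3 : (0 : ZMod r) ^ i = 1 := by rw [← h]; exact pow_orderOf_eq_one _
    rw [zero_pow hi.ne'] at h3
    exact zero_ne_one h3

theorem pair8 : ∀ i : Fin 8, ∃ v : Fin 8 → ℤ, pairing (cartanOf chevE8 8) i v = 1 ∨ pairing (cartanOf chevE8 8) i v = -1 := by
  have h : ∀ i : Fin 8, ∃ j : Fin 8, cartanOf chevE8 8 i j = -1 := by decide +kernel
  intro i
  obtain ⟨j, hj⟩ := h i
  refine ⟨sr j, Or.inr ?_⟩
  rw [← hj]
  unfold pairing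
  rw [Finset.sum_eq_single j]
  · rw [sr_self, mul_one]
  · intro k _ hk
    rw [sr_ne hk, mul_zero]
  · intro h1
    exact absurd (Finset.mem_univ j) h1

section

variable {F : Type u} [Field F] [Finite F]

/-- a prime not isolated commutes with a root `SL₂(q)` -/
theorem low_E8 {p : ℕ} [Fact p.Prime] [CharP F p] {r : ℕ} (hr : r.Prime) (hd : r ∣ Nat.card ↥(chevE8.group F))
    (hrq : ¬ r ∣ Nat.card F) (h15 : od (Nat.card F) r ≠ 15) (h20 : od (Nat.card F) r ≠ 20)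
    (h24 : od (Nat.card F) r ≠ 24) (h30 : od (Nat.card F) r ≠ 30) :
    ∃ x : ↥(chevE8.group F), orderOf x = r ∧ ∀ m : ℕ, (m = p ∨ m ∣ Nat.card F - 1 ∨ m ∣ Nat.card F + 1) →
      ∃ y : ↥(chevE8.group F), orderOf y = m ∧ Commute x y := by
  let cs : CoxeterSystem CoxeterMatrix.E₈ CoxeterMatrix.E₈.Group := CoxeterMatrix.E₈.toCoxeterSystem
  have := finite_W e8T cs
  have hq : 1 ≤ Nat.card F := Nat.card_pos
  have hn1 : ∀ {m : ℕ}, m ≠ 1 → od (Nat.card F) r = m → ¬ r ∣ Nat.card F - 1 := by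
    intro m hm h3 h4
    have h5 : od (Nat.card F) r ∣ 1 := od_dvd hq (by rw [pow_one]; exact h4)
    rw [h3] at h5
    exact hm (Nat.dvd_one.1 h5)
  rcases od_E8 hr hd with h | h | h | h | h | h | h | h | h | h | h | h | h | h | h | h | h | h
  · exact absurd h hrq
  · exact H962.RootSL.exists_split_sl e8T pair8 (i := 7) (j := 0) (by decide +kernel) (dvd_of_od_one hq h)
  · exact H962.RootSL.exists_row_sl e8T cs inv_E8 one_ne_zero pair8 H378.AdjE8.hA H378.AdjE8.lt_nroots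
      H378.AdjE8.row2 hr (hn1 (by decide) h) (dvd2 hr h)
  · exact H962.RootSL.exists_row_sl e8T cs inv_E8 one_ne_zero pair8 H378.AdjE8.hA H378.AdjE8.lt_nroots
      H378.AdjE8.row3 hr (hn1 (by decide) h) (dvd3 hr h)
  · exact H962.RootSL.exists_row_sl e8T cs inv_E8 one_ne_zero pair8 H378.AdjE8.hA H378.AdjE8.lt_nroots
      H378.AdjE8.row4 hr (hn1 (by decide) h) (dvd4 hr h)
  · exact H962.RootSL.exists_row_sl e8T cs inv_E8 one_ne_zero pair8 H378.AdjE8.hA H378.AdjE8.lt_nroots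
      H378.AdjE8.row5 hr (hn1 (by decide) h) (dvd5 hr h)
  · exact H962.RootSL.exists_row_sl e8T cs inv_E8 one_ne_zero pair8 H378.AdjE8.hA H378.AdjE8.lt_nroots
      H378.AdjE8.row6 hr (hn1 (by decide) h) (dvd6 hr h)
  · exact H962.RootSL.exists_row_sl e8T cs inv_E8 one_ne_zero pair8 H378.AdjE8.hA H378.AdjE8.lt_nroots
      H378.AdjE8.row7 hr (hn1 (by decide) h) (dvd7 hr h)
  · exact H962.RootSL.exists_row_sl e8T cs inv_E8 one_ne_zero pair8 H378.AdjE8.hA H378.AdjE8.lt_nroots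
      H378.AdjE8.row8 hr (hn1 (by decide) h) (dvd8 hr h)
  · exact H962.RootSL.exists_row_sl e8T cs inv_E8 one_ne_zero pair8 H378.AdjE8.hA H378.AdjE8.lt_nroots
      H378.AdjE8.row9 hr (hn1 (by decide) h) (dvd9 hr h)
  · exact H962.RootSL.exists_row_sl e8T cs inv_E8 one_ne_zero pair8 H378.AdjE8.hA H378.AdjE8.lt_nroots
      H378.AdjE8.row10 hr (hn1 (by decide) h) (dvd10 hr h)
  · exact H962.RootSL.exists_row_sl e8T cs inv_E8 one_ne_zero pair8 H378.AdjE8.hA H378.AdjE8.lt_nroots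
      H378.AdjE8.row12 hr (hn1 (by decide) h) (dvd12 hr h)
  · exact H962.RootSL.exists_row_sl e8T cs inv_E8 one_ne_zero pair8 H378.AdjE8.hA H378.AdjE8.lt_nroots
      H378.AdjE8.row14 hr (hn1 (by decide) h) (dvd14 hr h)
  · exact absurd h h15
  · exact H962.RootSL.exists_row_sl e8T cs inv_E8 one_ne_zero pair8 H378.AdjE8.hA H378.AdjE8.lt_nroots
      H378.AdjE8.row18 hr (hn1 (by decide) h) (dvd18 hr h)
  · exact absurd h h20
  · exact absurd h h24
  · exact absurd h h30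

theorem mem_I8 {i : ℕ} (hi : i ∈ I8) : i = 15 ∨ i = 20 ∨ i = 24 ∨ i = 30 := by
  simpa only [I8, Finset.mem_insert, Finset.mem_singleton] using hi

theorem exi_E8 {i : ℕ} (hi : i ∈ I8) : ∃ x : ↥(chevE8.group F), orderOf x = Ph i (Nat.card F) := by
  have hu : 2 ≤ Nat.card F := Finite.one_lt_card
  rcases mem_I8 hi with rfl | rfl | rfl | rfl
  · obtain ⟨x, hx⟩ := H414.Iso.e8_order15 (F := F)
    refine ⟨x, ?_⟩
    rw [hx, Ph, H416.Arith.eval_15, ← H414.Iso.cast15 hu, Int.natAbs_natCast]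
  · obtain ⟨x, hx⟩ := H414.Iso.e8_order20 (F := F)
    refine ⟨x, ?_⟩
    rw [hx, Ph, H414.Iso.e8_eval20, ← H414.Iso.cast20 hu, Int.natAbs_natCast]
  · obtain ⟨x, hx⟩ := H414.Iso.e8_order24 (F := F)
    refine ⟨x, ?_⟩
    rw [hx, Ph, H416.Arith.eval_24, ← H414.Iso.cast24 hu, Int.natAbs_natCast]
  · obtain ⟨x, hx⟩ := H414.Iso.e8_order30 (F := F)
    refine ⟨x, ?_⟩
    rw [hx, Ph, H416.Arith.eval_30, ← H414.Iso.cast30 hu, Int.natAbs_natCast]

/-- a power of prime order -/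
theorem exists_pow_prime {G : Type*} [Group G] [Finite G] {x : G} {r : ℕ} (h : r ∣ orderOf x) :
    ∃ k : ℕ, orderOf (x ^ k) = r := by
  obtain ⟨k, hk⟩ := h
  have hx0 : 0 < orderOf x := orderOf_pos x
  have hk0 : k ≠ 0 := by rintro rfl; rw [mul_zero] at hk; omega
  exact ⟨k, by rw [orderOf_pow_of_dvd hk0 (Dvd.intro_left _ hk.symm), hk, Nat.mul_div_cancel _ (Nat.pos_of_ne_zero hk0)]⟩

theorem top_E8 {i : ℕ} (hi : i ∈ I8) (x : ↥(chevE8.group F)) {r : ℕ} (hr : Prim (Nat.card F) i r)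
    (hx : r ∣ orderOf x) : orderOf x ∣ Ph i (Nat.card F) := by
  have hi4 := mem_I8 hi
  have hod : od (Nat.card F) r = i := (prim_iff Nat.card_pos hr.prime (by omega)).1 hr
  obtain ⟨k, hk⟩ := exists_pow_prime hx
  have h1 := (H378.RegFin.cent_od e8T inv_E8 one_ne_zero hr.prime hk hod
    (by rcases hi4 with rfl | rfl | rfl | rfl <;> decide) (by omega)).2
  refine Dvd.dvd.trans ?_ h1
  have hc : x ∈ Subgroup.centralizer {x ^ k} := by
    rw [Subgroup.mem_centralizer_singleton_iff, ← pow_succ, ← pow_succ']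
  rw [← Subgroup.orderOf_mk x hc]
  exact orderOf_dvd_natCard _

end

/-- **the facts on `E₈(u)`** -/
theorem fE8 {v u : ℕ} (hv : v.Prime) (hu : ∃ f, 1 ≤ f ∧ u = v ^ f) {S : Type u} [Group S] [Finite S]
    (h : IsNamed (.e8 u) S) : FE8 v u S := by
  obtain ⟨F, _, _, hF, ⟨e⟩⟩ := h.real
  obtain ⟨f, hf, rfl⟩ := hu
  have hcF : Nat.card F = v ^ f := by rw [Nat.card_eq_fintype_card, hF]
  have hvf : Fact v.Prime := ⟨hv⟩
  have hch : CharP F v := by
    obtain ⟨c, hc⟩ := CharP.exists F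
    have hcp : c.Prime := CharP.char_is_prime F c
    obtain ⟨n, -, hn⟩ := FiniteField.card F c
    rw [hF] at hn
    have h1 : c ∣ v ^ f := by rw [hn]; exact dvd_pow_self c n.ne_zero
    have h2 := (Nat.prime_dvd_prime_iff_eq hcp hv).1 (hcp.dvd_of_dvd_pow h1)
    rwa [h2] at hc
  have hq : 1 ≤ Nat.card F := Nat.card_pos
  have hor : ∀ y : ↥(chevE8.group F), orderOf (e.symm y) = orderOf y := fun y => MulEquiv.orderOf_eq _ _
  refine ⟨?_, ?_, ?_, ?_⟩
  · intro r hr hd hrv hI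
    rw [Nat.card_congr e.toEquiv] at hd
    have hrq : ¬ r ∣ Nat.card F := by
      rw [hcF]
      intro h1
      exact hrv ((Nat.prime_dvd_prime_iff_eq hr hv).1 (hr.dvd_of_dvd_pow h1))
    have hne : ∀ i ∈ I8, od (Nat.card F) r ≠ i := by
      intro i hi h1
      apply hI i hi
      rw [← hcF]
      exact (prim_iff hq hr (by have := mem_I8 hi; omega)).2 h1
    obtain ⟨x, hx, hxy⟩ := low_E8 (p := v) hr hd hrq (hne 15 (by decide)) (hne 20 (by decide)) (hne 24 (by decide))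
      (hne 30 (by decide))
    refine ⟨e.symm x, by rw [hor, hx], fun n hn => ?_⟩
    obtain ⟨y, hy, hc⟩ := hxy n (by
      simp only [Finset.mem_insert, Finset.mem_singleton] at hn
      rw [hcF]
      rcases hn with rfl | rfl | rfl
      · exact Or.inl rfl
      · exact Or.inr (Or.inl dvd_rfl)
      · exact Or.inr (Or.inr dvd_rfl))
    exact ⟨e.symm y, by rw [hor, hy], hc.map e.symm.toMonoidHom⟩
  · intro hv2
    have h2 : 2 ∣ Nat.card F - 1 := by
      rw [hcF]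
      have h1 : Odd (v ^ f) := (hv.odd_of_ne_two hv2).pow
      obtain ⟨m, hm⟩ := h1
      exact ⟨m, by omega⟩
    obtain ⟨x, hx, hxy⟩ := H962.RootSL.exists_split_sl e8T pair8 (i := 7) (j := 0) (by decide +kernel) h2 (p := v)
    obtain ⟨y, hy, hc⟩ := hxy v (Or.inl rfl)
    refine ⟨e.symm (x * y), ?_⟩
    rw [hor, hc.orderOf_mul_eq_mul_orderOf_of_coprime, hx, hy]
    rw [hx, hy]
    exact (Nat.coprime_primes Nat.prime_two hv).2 (Ne.symm hv2)
  · intro i hi
    obtain ⟨x, hx⟩ := exi_E8 (F := F) hi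
    exact ⟨e.symm x, by rw [hor, hx, hcF]⟩
  · intro i hi x r hr hx
    have h1 := top_E8 (F := F) hi (e x) (r := r) (by rw [hcF]; exact hr) (by rw [MulEquiv.orderOf_eq]; exact hx)
    rwa [MulEquiv.orderOf_eq, hcF] at h1

end Cfsg.Agent.H962.E7
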