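import Cfsg.Agent.H962.E7.Frame
import Cfsg.Agent.H824.E7.Facts
import Cfsg.Agent.H902.Iso
import Cfsg.Agent.H373.Recog

/-!
# S3482: the assembly (helper962)

`main` : recognition, given the identification of `S`, the own characteristic and the automorphisms.
-/

set_option autoImplicit false

namespace Cfsg.Agent.H962.E7

open Subgroup Cfsg Cfsg.Lie
open Cfsg.Agent.H436 Cfsg.Agent.H420.QR Cfsg.Agent.OrdDiv
open Cfsg.Agent.H824.E7

universe u v

/-- the facts on `L` -/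
theorem exists_LF (F : Type v) [Field F] [Fintype F] (p : ℕ) [CharP F p] (hp : p = 2 ∨ p = 13 ∨ p = 17) :
    ∃ k : ℕ, Fintype.card F = p ^ k ∧ LF p k ↥(chevE7.group F) := by
  have hpp : Fact p.Prime := ⟨CharP.char_is_prime F p⟩
  obtain ⟨n, -, hn⟩ := FiniteField.card F p
  refine ⟨n, hn, hpp.out, n.2, hp, hn ▸ Facts.tor_L F, hn ▸ Facts.nad_L F, ?_, ?_, ?_⟩
  · intro r hr hd
    rcases Facts.pi_L F r hr hd with h1 | h1
    · left
      rw [hn] at h1
      exact (Nat.prime_dvd_prime_iff_eq hr hpp.out).1 (hr.dvd_of_dvd_pow h1)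
    · right
      rwa [hn] at h1
  · intro i hi r hr
    exact Facts.dvd_card F hi (hn ▸ hr)
  · intro i hi
    have := Facts.elt_L F hi
    rwa [hn] at this

/-- **The assembly.** -/
theorem main {G : Type u} [Group G] [Finite G] {F : Type v} [Field F] [Fintype F] (p : ℕ) [CharP F p]
    (hp : p = 2 ∨ p = 13 ∨ p = 17)
    (hNN : ∀ k : ℕ, 1 ≤ k → ∀ i ∈ C4, ∀ r : ℕ, r.Prime → r ∣ NN (p ^ k) i → Prim (p ^ k) i r)
    (hodd : ∀ k : ℕ, 1 ≤ k → ∀ i ∈ ({14, 18} : Finset ℕ), ¬ 2 ∣ TT (p ^ k) i)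
    (hodd2 : ∀ k : ℕ, 1 ≤ k → p = 2 → ∀ i ∈ C4, ¬ 2 ∣ TT (p ^ k) i)
    (hcov : H373.Recog.Cov.{v, u} ↥(chevE7.group F)) (haut : H373.Recog.AutOk ↥(chevE7.group F))
    (hrow : ∀ (k : ℕ) (S : Type u) [Group S] [Finite S], Row p k S → ∀ g : Grp, IsNamed g S → g = .e7 (p ^ k))
    (h : Set.range (orderOf : G → ℕ) = Set.range (orderOf : ↥(chevE7.group F) → ℕ)) :
    Nonempty (G ≃* ↥(chevE7.group F)) := by
  obtain ⟨k, hF, hL⟩ := exists_LF F p hp
  have hfin : Finite ↥(chevE7.group F) := inferInstance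
  obtain ⟨K, hK, S, hS, R, hR⟩ := frame hL (hNN k hL.hk) (hodd k hL.hk) (hodd2 k hL.hk) (G := G) (fun m => by
    change m ∈ Set.range (orderOf : G → ℕ) ↔ m ∈ Set.range (orderOf : ↥(chevE7.group F) → ℕ)
    rw [h])
  obtain ⟨g, hg⟩ := R.named
  obtain rfl := hrow k ↥S hR g hg
  obtain ⟨F', _, _, hF', ⟨e⟩⟩ := hg.real
  obtain ⟨e'⟩ := H902.Iso.chev_congr (FiniteField.ringEquivOfCardEq (hF'.trans hF.symm)) chevE7
  exact H373.Recog.recognize h K R.solv S R.cent (e.trans e') hcov haut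

end Cfsg.Agent.H962.E7
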