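import Cfsg.Agent.H962.E7.Def

/-!
# Facts on `E₇(u)` used in S3482, row R9 (helper962)

`e = gcd 2 (u - 1)`; `TT u i` : order of the torus of class `i ∈ {7, 9, 14, 18}`.
-/

set_option autoImplicit false

namespace Cfsg.Agent.H962.E7

open Cfsg.Agent.H436

/-- what is used of `S = E₇(u)`, `u` a power of `v` -/
structure FE7 (v u : ℕ) (S : Type*) [Group S] : Prop where
  /-- a prime `r ≠ v` not of the classes 7, 9, 14, 18 of `u` -/
  low : ∀ r : ℕ, r.Prime → r ∣ Nat.card S → r ≠ v → (∀ i ∈ C4, ¬ Prim u i r) →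
    ∃ x : S, orderOf x = r ∧ ∀ n ∈ ({v, (u - 1) / Nat.gcd 2 (u - 1), (u + 1) / Nat.gcd 2 (u - 1)} : Finset ℕ),
      ∃ y : S, orderOf y = n ∧ Commute x y
  vtwo : v ≠ 2 → ∃ x : S, orderOf x = 2 * v
  /-- the four tori (`TT u i = (u⁷ ∓ 1) / e`, `(u ∓ 1)(u⁶ ± u³ + 1) / e`) -/
  exi : ∀ i ∈ C4, ∃ x : S, orderOf x = TT u i
  top : Tor S u

end Cfsg.Agent.H962.E7
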