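import Cfsg.Agent.H378.AdjE7
import Cfsg.Agent.H378.LatPerp
import Cfsg.Agent.H129.WForm

/-!
# The root lattice of `E₇`: form and counts (helper962)

* `B` : the form of the root lattice with matrix the Cartan matrix;
* `B_rep`, `B_pos`, `two_form_B` : `W` acts by isometries, `2 form = f B`;
* `c1`, `c2`, `c3` : numbers of roots with given products with one or two roots.
-/

set_option autoImplicit false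
set_option linter.unusedSectionVars false

namespace Cfsg.Agent.H962.E7.Lat

open CoxeterSystem Cfsg Cfsg.Lie Cfsg.Lie.ChevalleyDatum
open Cfsg.Agent.ChevalleyStructure.CoxeterGeom Cfsg.Agent.ChevalleyStructure.CoxeterGeomTypes
open Cfsg.Agent.Tits.Roots Cfsg.Agent.Tits.Core Cfsg.Agent.Nodes.Reps Cfsg.Agent.Nodes.BNOf Cfsg.Agent.Nodes.RGDChev
open Cfsg.Agent.H378.AdjE7 (Am hA)

/-! ### computation -/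

/-- the dot product of lists -/
def dot : List ℤ → List ℤ → ℤ
  | a :: l, b :: m => a * b + dot l m
  | _, _ => 0

/-- the rows of the Cartan matrix -/
def AR : List (List ℤ) := [[2, 0, -1, 0, 0, 0, 0], [0, 2, 0, -1, 0, 0, 0], [-1, 0, 2, -1, 0, 0, 0],
  [0, -1, -1, 2, -1, 0, 0], [0, 0, 0, -1, 2, -1, 0], [0, 0, 0, 0, -1, 2, -1], [0, 0, 0, 0, 0, -1, 2]]

/-- the vector `A v` -/
def am (v : List ℤ) : List ℤ := AR.map fun r => dot r v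

set_option maxHeartbeats 4000000 in
/-- the roots -/
def RL : List (List ℤ) := [
  [-2, -2, -3, -4, -3, -2, -1],
  [-1, -2, -3, -4, -3, -2, -1],
  [-1, -2, -2, -4, -3, -2, -1],
  [-1, -2, -2, -3, -3, -2, -1],
  [-1, -2, -2, -3, -2, -2, -1],
  [-1, -2, -2, -3, -2, -1, -1],
  [-1, -2, -2, -3, -2, -1, 0],
  [-1, -1, -2, -3, -3, -2, -1],
  [-1, -1, -2, -3, -2, -2, -1],
  [-1, -1, -2, -3, -2, -1, -1],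
  [-1, -1, -2, -3, -2, -1, 0],
  [-1, -1, -2, -2, -2, -2, -1],
  [-1, -1, -2, -2, -2, -1, -1],
  [-1, -1, -2, -2, -2, -1, 0],
  [-1, -1, -2, -2, -1, -1, -1],
  [-1, -1, -2, -2, -1, -1, 0],
  [-1, -1, -2, -2, -1, 0, 0],
  [-1, -1, -1, -2, -2, -2, -1],
  [-1, -1, -1, -2, -2, -1, -1],
  [-1, -1, -1, -2, -2, -1, 0],
  [-1, -1, -1, -2, -1, -1, -1],
  [-1, -1, -1, -2, -1, -1, 0],
  [-1, -1, -1, -2, -1, 0, 0],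
  [-1, -1, -1, -1, -1, -1, -1],
  [-1, -1, -1, -1, -1, -1, 0],
  [-1, -1, -1, -1, -1, 0, 0],
  [-1, -1, -1, -1, 0, 0, 0],
  [-1, 0, -1, -1, -1, -1, -1],
  [-1, 0, -1, -1, -1, -1, 0],
  [-1, 0, -1, -1, -1, 0, 0],
  [-1, 0, -1, -1, 0, 0, 0],
  [-1, 0, -1, 0, 0, 0, 0],
  [-1, 0, 0, 0, 0, 0, 0],
  [0, -1, -1, -2, -2, -2, -1],
  [0, -1, -1, -2, -2, -1, -1],
  [0, -1, -1, -2, -2, -1, 0],
  [0, -1, -1, -2, -1, -1, -1],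
  [0, -1, -1, -2, -1, -1, 0],
  [0, -1, -1, -2, -1, 0, 0],
  [0, -1, -1, -1, -1, -1, -1],
  [0, -1, -1, -1, -1, -1, 0],
  [0, -1, -1, -1, -1, 0, 0],
  [0, -1, -1, -1, 0, 0, 0],
  [0, -1, 0, -1, -1, -1, -1],
  [0, -1, 0, -1, -1, -1, 0],
  [0, -1, 0, -1, -1, 0, 0],
  [0, -1, 0, -1, 0, 0, 0],
  [0, -1, 0, 0, 0, 0, 0],
  [0, 0, -1, -1, -1, -1, -1],
  [0, 0, -1, -1, -1, -1, 0],
  [0, 0, -1, -1, -1, 0, 0],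
  [0, 0, -1, -1, 0, 0, 0],
  [0, 0, -1, 0, 0, 0, 0],
  [0, 0, 0, -1, -1, -1, -1],
  [0, 0, 0, -1, -1, -1, 0],
  [0, 0, 0, -1, -1, 0, 0],
  [0, 0, 0, -1, 0, 0, 0],
  [0, 0, 0, 0, -1, -1, -1],
  [0, 0, 0, 0, -1, -1, 0],
  [0, 0, 0, 0, -1, 0, 0],
  [0, 0, 0, 0, 0, -1, -1],
  [0, 0, 0, 0, 0, -1, 0],
  [0, 0, 0, 0, 0, 0, -1],
  [0, 0, 0, 0, 0, 0, 1],
  [0, 0, 0, 0, 0, 1, 0],
  [0, 0, 0, 0, 0, 1, 1],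
  [0, 0, 0, 0, 1, 0, 0],
  [0, 0, 0, 0, 1, 1, 0],
  [0, 0, 0, 0, 1, 1, 1],
  [0, 0, 0, 1, 0, 0, 0],
  [0, 0, 0, 1, 1, 0, 0],
  [0, 0, 0, 1, 1, 1, 0],
  [0, 0, 0, 1, 1, 1, 1],
  [0, 0, 1, 0, 0, 0, 0],
  [0, 0, 1, 1, 0, 0, 0],
  [0, 0, 1, 1, 1, 0, 0],
  [0, 0, 1, 1, 1, 1, 0],
  [0, 0, 1, 1, 1, 1, 1],
  [0, 1, 0, 0, 0, 0, 0],
  [0, 1, 0, 1, 0, 0, 0],
  [0, 1, 0, 1, 1, 0, 0],
  [0, 1, 0, 1, 1, 1, 0],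
  [0, 1, 0, 1, 1, 1, 1],
  [0, 1, 1, 1, 0, 0, 0],
  [0, 1, 1, 1, 1, 0, 0],
  [0, 1, 1, 1, 1, 1, 0],
  [0, 1, 1, 1, 1, 1, 1],
  [0, 1, 1, 2, 1, 0, 0],
  [0, 1, 1, 2, 1, 1, 0],
  [0, 1, 1, 2, 1, 1, 1],
  [0, 1, 1, 2, 2, 1, 0],
  [0, 1, 1, 2, 2, 1, 1],
  [0, 1, 1, 2, 2, 2, 1],
  [1, 0, 0, 0, 0, 0, 0],
  [1, 0, 1, 0, 0, 0, 0],
  [1, 0, 1, 1, 0, 0, 0],
  [1, 0, 1, 1, 1, 0, 0],
  [1, 0, 1, 1, 1, 1, 0],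
  [1, 0, 1, 1, 1, 1, 1],
  [1, 1, 1, 1, 0, 0, 0],
  [1, 1, 1, 1, 1, 0, 0],
  [1, 1, 1, 1, 1, 1, 0],
  [1, 1, 1, 1, 1, 1, 1],
  [1, 1, 1, 2, 1, 0, 0],
  [1, 1, 1, 2, 1, 1, 0],
  [1, 1, 1, 2, 1, 1, 1],
  [1, 1, 1, 2, 2, 1, 0],
  [1, 1, 1, 2, 2, 1, 1],
  [1, 1, 1, 2, 2, 2, 1],
  [1, 1, 2, 2, 1, 0, 0],
  [1, 1, 2, 2, 1, 1, 0],
  [1, 1, 2, 2, 1, 1, 1],
  [1, 1, 2, 2, 2, 1, 0],
  [1, 1, 2, 2, 2, 1, 1],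
  [1, 1, 2, 2, 2, 2, 1],
  [1, 1, 2, 3, 2, 1, 0],
  [1, 1, 2, 3, 2, 1, 1],
  [1, 1, 2, 3, 2, 2, 1],
  [1, 1, 2, 3, 3, 2, 1],
  [1, 2, 2, 3, 2, 1, 0],
  [1, 2, 2, 3, 2, 1, 1],
  [1, 2, 2, 3, 2, 2, 1],
  [1, 2, 2, 3, 3, 2, 1],
  [1, 2, 2, 4, 3, 2, 1],
  [1, 2, 3, 4, 3, 2, 1],
  [2, 2, 3, 4, 3, 2, 1]]

theorem RL_eq : (List.range 126).map (fun r => (List.finRange 7).map fun i => vec chevE7 7 r i) = RL := by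
  decide +kernel

theorem RL_len : ∀ l ∈ RL, l.length = 7 := by decide +kernel

theorem RL_nodup : RL.Nodup := by decide +kernel

theorem RL_sq : ∀ v ∈ RL, dot (am v) v = 2 := by decide +kernel

theorem cnt1 : ∀ a ∈ AR, (RL.filter fun v => dot a v == 1).length = 32 := by decide +kernel

theorem cnt2 : ∀ a ∈ AR, ∀ s ∈ RL, dot a s = 0 →
    (RL.filter fun v => dot a v == 1 && dot (am s) v == 0).length = 16 := by decide +kernel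

theorem cnt3 : ∀ a ∈ AR, ∀ s ∈ RL, (dot a s = 1 ∨ dot a s = -1) →
    (RL.filter fun v => dot a v == 1 && dot (am s) v == 0).length = 15 := by decide +kernel

end Cfsg.Agent.H962.E7.Lat
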